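import Groth.Agent.S16234
import Mathlib.Algebra.Module.SnakeLemma
import Mathlib.RingTheory.Length
import Mathlib.RingTheory.Support
import Mathlib.Tactic

/-!
# Iterated Euler characteristics of multiplication maps

`chi (x :: l) M = chi l (M/xM) - chi l (M[x])`, starting from the length.
-/

set_option autoImplicit false
universe u

namespace Groth.Agent.KEuler

variable {A : Type u} [CommRing A]

/-- The kernel of multiplication by `x`. -/
abbrev Ker (x : A) (M : Type u) [AddCommGroup M] [Module A M] : Submodule A M :=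
  LinearMap.ker (LinearMap.lsmul A M x)

/-- The image of multiplication by `x`. -/
abbrev Im (x : A) (M : Type u) [AddCommGroup M] [Module A M] : Submodule A M :=
  LinearMap.range (LinearMap.lsmul A M x)

/-- The iterated Euler characteristic. -/
noncomputable def chi : List A → ∀ (M : Type u) [AddCommGroup M] [Module A M], ℤ
  | [], M, _, _ => ((Module.length A M).toNat : ℤ)
  | x :: l, M, _, _ => chi l (M ⧸ Im x M) - chi l (Ker x M)

theorem chi_nil (M : Type u) [AddCommGroup M] [Module A M] :
    chi ([] : List A) M = ((Module.length A M).toNat : ℤ) := rfl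

theorem chi_cons (x : A) (l : List A) (M : Type u) [AddCommGroup M] [Module A M] :
    chi (x :: l) M = chi l (M ⧸ Im x M) - chi l (Ker x M) := rfl

/-- `M` is finite and the only primes of its support containing `l` are maximal. -/
structure Fn (l : List A) (M : Type u) [AddCommGroup M] [Module A M] : Prop where
  fin : Module.Finite A M
  max : ∀ p ∈ Module.support A M, (∀ a ∈ l, a ∈ p.asIdeal) → p.asIdeal.IsMaximal

section Basic

variable {M N P : Type u} [AddCommGroup M] [Module A M] [AddCommGroup N] [Module A N]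
  [AddCommGroup P] [Module A P]

theorem chi_congr : ∀ (l : List A) {M N : Type u} [AddCommGroup M] [Module A M] [AddCommGroup N]
    [Module A N], (M ≃ₗ[A] N) → chi l M = chi l N := by
  intro l
  induction l with
  | nil =>
    intro M N _ _ _ _ e
    rw [chi_nil, chi_nil, e.length_eq]
  | cons x l ih =>
    intro M N _ _ _ _ e
    rw [chi_cons, chi_cons]
    have hI : Submodule.map e.toLinearMap (Im x M) = Im x N := by
      ext n
      constructor
      · rintro ⟨_, ⟨m, rfl⟩, rfl⟩
        exact ⟨e m, (e.map_smul x m).symm⟩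
      · rintro ⟨n, rfl⟩
        exact ⟨x • e.symm n, ⟨e.symm n, rfl⟩, by simp⟩
    have hK : Submodule.map e.toLinearMap (Ker x M) = Ker x N := by
      ext n
      constructor
      · rintro ⟨m, hm, rfl⟩
        show x • e m = 0
        rw [← e.map_smul, show x • m = 0 from hm, map_zero]
      · intro hn
        refine ⟨e.symm n, ?_, e.apply_symm_apply n⟩
        show x • e.symm n = 0
        rw [← e.symm.map_smul, show x • n = 0 from hn, map_zero]
    rw [ih (Submodule.Quotient.equiv _ _ e hI), ih (e.ofSubmodules _ _ hK)]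

theorem chi_eq_zero_of_subsingleton : ∀ (l : List A) (M : Type u) [AddCommGroup M] [Module A M]
    [Subsingleton M], chi l M = 0 := by
  intro l
  induction l with
  | nil =>
    intro M _ _ _
    rw [chi_nil, Module.length_eq_zero]
    rfl
  | cons x l ih =>
    intro M _ _ _
    rw [chi_cons, ih, ih, sub_zero]

/-- A unit in the sequence kills the Euler characteristic. -/
theorem chi_eq_zero_of_isUnit : ∀ (l : List A) (M : Type u) [AddCommGroup M] [Module A M]
    (x : A), x ∈ l → IsUnit x → chi l M = 0 := by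
  intro l
  induction l with
  | nil => intro M _ _ x hx; simp at hx
  | cons y l ih =>
    intro M _ _ x hx hu
    rw [chi_cons]
    rcases List.mem_cons.1 hx with rfl | hx
    · have : Subsingleton (Ker x M) := ⟨fun a b => Subtype.ext (by
        have ha : x • a.1 = 0 := a.2
        have hb : x • b.1 = 0 := b.2
        exact hu.smul_left_cancel.1 (ha.trans hb.symm))⟩
      have : Subsingleton (M ⧸ Im x M) := by
        rw [Submodule.Quotient.subsingleton_iff]
        refine Submodule.eq_top_iff'.2 fun m => ⟨(hu.unit⁻¹ : Aˣ).1 • m, ?_⟩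
        show x • _ = m
        rw [smul_smul, IsUnit.mul_val_inv, one_smul]
      rw [chi_eq_zero_of_subsingleton, chi_eq_zero_of_subsingleton, sub_zero]
    · rw [ih _ x hx hu, ih _ x hx hu, sub_zero]

theorem Fn.weaken {l l' : List A} (h : Fn l M)
    (hle : ∀ p : PrimeSpectrum A, (∀ a ∈ l', a ∈ p.asIdeal) → ∀ a ∈ l, a ∈ p.asIdeal) : Fn l' M :=
  ⟨h.fin, fun p hp ha => h.max p hp (hle p ha)⟩

theorem Fn.of_surjective {l : List A} (h : Fn l M) (f : M →ₗ[A] N) (hf : Function.Surjective f) :
    Fn l N :=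
  ⟨have := h.fin; Module.Finite.of_surjective f hf,
    fun p hp => h.max p (Module.support_subset_of_surjective f hf hp)⟩

theorem Fn.quotient {l : List A} (h : Fn l M) (S : Submodule A M) : Fn l (M ⧸ S) :=
  h.of_surjective S.mkQ S.mkQ_surjective

theorem Fn.im_quotient {x : A} {l : List A} (h : Fn (x :: l) M) : Fn l (M ⧸ Im x M) :=
  ⟨(h.quotient _).fin, fun p hp ha => (h.quotient _).max p hp fun a hm => by
    rcases List.mem_cons.1 hm with rfl | hm
    · refine Module.annihilator_le_of_mem_support hp (Module.mem_annihilator.2 fun q => ?_)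
      obtain ⟨m, rfl⟩ := (Im a M).mkQ_surjective q
      rw [← map_smul, Submodule.mkQ_apply, Submodule.Quotient.mk_eq_zero]
      exact ⟨m, rfl⟩
    · exact ha a hm⟩

variable [IsNoetherianRing A]

theorem Fn.of_injective {l : List A} (h : Fn l M) (f : N →ₗ[A] M) (hf : Function.Injective f) :
    Fn l N :=
  ⟨have := h.fin; Module.Finite.of_injective f hf,
    fun p hp => h.max p (Module.support_subset_of_injective f hf hp)⟩

theorem Fn.sub {l : List A} (h : Fn l M) (S : Submodule A M) : Fn l S :=
  h.of_injective S.subtype S.subtype_injective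

theorem Fn.ker {x : A} {l : List A} (h : Fn (x :: l) M) : Fn l (Ker x M) :=
  ⟨(h.sub _).fin, fun p hp ha => (h.sub _).max p hp fun a hm => by
    rcases List.mem_cons.1 hm with rfl | hm
    · exact Module.annihilator_le_of_mem_support hp
        (Module.mem_annihilator.2 fun z => Subtype.ext z.2)
    · exact ha a hm⟩

theorem Fn.of_range_ker {l : List A} (f : N →ₗ[A] M) (g : M →ₗ[A] P)
    (h : LinearMap.range f = LinearMap.ker g) (h1 : Fn l N) (h3 : Fn l P) : Fn l M := by
  have hf := h1.of_surjective f.rangeRestrict f.surjective_rangeRestrict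
  have hg := h3.sub (LinearMap.range g)
  rw [h] at hf
  have := hf.fin
  have := hg.fin
  have hex : Function.Exact (LinearMap.ker g).subtype g.rangeRestrict :=
    LinearMap.exact_iff.2 (by rw [LinearMap.ker_rangeRestrict, Submodule.range_subtype])
  have : IsNoetherian A M := isNoetherian_of_range_eq_ker (LinearMap.ker g).subtype g.rangeRestrict
    (LinearMap.exact_iff.1 hex).symm
  refine ⟨inferInstance, fun p hp => ?_⟩
  rw [Module.support_of_exact hex (Submodule.subtype_injective _) g.surjective_rangeRestrict] at hp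
  rcases hp with hp | hp
  · exact hf.max p hp
  · exact hg.max p hp

theorem isFiniteLength_iff_fn_nil [Module.Finite A M] : IsFiniteLength A M ↔ Fn ([] : List A) M := by
  rw [← Groth.Agent.S16234.result]
  exact ⟨fun h => ⟨inferInstance, fun p hp _ => h p hp⟩, fun h p hp => h.max p hp (by simp)⟩

end Basic

variable [IsNoetherianRing A]

/-- `chi l` is additive on short exact sequences. -/
def ChiAdd (l : List A) : Prop :=
  ∀ {M₁ M₂ M₃ : Type u} [AddCommGroup M₁] [Module A M₁] [AddCommGroup M₂] [Module A M₂]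
    [AddCommGroup M₃] [Module A M₃] (f : M₁ →ₗ[A] M₂) (g : M₂ →ₗ[A] M₃), Function.Injective f →
    Function.Surjective g → Function.Exact f g → Fn l M₂ → chi l M₂ = chi l M₁ + chi l M₃

omit [IsNoetherianRing A] in
theorem chi_split_of {l : List A} (hl : ChiAdd l) {M N : Type u} [AddCommGroup M] [Module A M]
    [AddCommGroup N] [Module A N] (g : M →ₗ[A] N) (hM : Fn l M) :
    chi l M = chi l (LinearMap.ker g) + chi l (LinearMap.range g) :=
  hl (LinearMap.ker g).subtype g.rangeRestrict (Submodule.subtype_injective _)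
    g.surjective_rangeRestrict
    (LinearMap.exact_iff.2 (by rw [LinearMap.ker_rangeRestrict, Submodule.range_subtype])) hM

theorem chi_mid_of {l : List A} (hl : ChiAdd l) {L M N : Type u} [AddCommGroup L] [Module A L]
    [AddCommGroup M] [Module A M] [AddCommGroup N] [Module A N] (f : L →ₗ[A] M) (g : M →ₗ[A] N)
    (h : Function.Exact f g) (hM : Fn l M) :
    chi l M = chi l (LinearMap.range f) + chi l (LinearMap.range g) := by
  rw [chi_split_of hl g hM, chi_congr l (LinearEquiv.ofEq _ _ (LinearMap.exact_iff.1 h))]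

/-- The alternating sum along a six-term exact sequence vanishes. -/
theorem chi_six_of {l : List A} (hl : ChiAdd l) {B₁ B₂ B₃ B₄ B₅ B₆ : Type u}
    [AddCommGroup B₁] [Module A B₁] [AddCommGroup B₂] [Module A B₂] [AddCommGroup B₃] [Module A B₃]
    [AddCommGroup B₄] [Module A B₄] [AddCommGroup B₅] [Module A B₅] [AddCommGroup B₆] [Module A B₆]
    (f₁ : B₁ →ₗ[A] B₂) (f₂ : B₂ →ₗ[A] B₃) (f₃ : B₃ →ₗ[A] B₄) (f₄ : B₄ →ₗ[A] B₅)
    (f₅ : B₅ →ₗ[A] B₆) (h₁ : Function.Injective f₁) (e₂ : Function.Exact f₁ f₂)
    (e₃ : Function.Exact f₂ f₃) (e₄ : Function.Exact f₃ f₄) (e₅ : Function.Exact f₄ f₅)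
    (h₅ : Function.Surjective f₅) (n₂ : Fn l B₂) (n₃ : Fn l B₃) (n₄ : Fn l B₄) (n₅ : Fn l B₅) :
    chi l B₁ - chi l B₂ + chi l B₃ - chi l B₄ + chi l B₅ - chi l B₆ = 0 := by
  rw [chi_congr l (LinearEquiv.ofInjective f₁ h₁), chi_mid_of hl f₁ f₂ e₂ n₂,
    chi_mid_of hl f₂ f₃ e₃ n₃, chi_mid_of hl f₃ f₄ e₄ n₄, chi_mid_of hl f₄ f₅ e₅ n₅,
    ← chi_congr l (LinearEquiv.ofTop _ (LinearMap.range_eq_top.2 h₅))]
  ring

theorem chiAdd : ∀ l : List A, ChiAdd l := by
  intro l
  induction l with
  | nil =>
    intro M₁ M₂ M₃ _ _ _ _ _ _ f g hf hg hfg h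
    have h1 := h.of_injective f hf
    have h3 := h.of_surjective g hg
    have := h.fin
    have := h1.fin
    have := h3.fin
    rw [chi_nil, chi_nil, chi_nil, Module.length_eq_add_of_exact f g hf hg hfg,
      ENat.toNat_add (Module.length_ne_top_iff.2 (isFiniteLength_iff_fn_nil.2 h1))
        (Module.length_ne_top_iff.2 (isFiniteLength_iff_fn_nil.2 h3))]
    push_cast
    rfl
  | cons x l ih =>
    intro M₁ M₂ M₃ _ _ _ _ _ _ f g hf hg hfg h
    have h1 := h.of_injective f hf
    have h3 := h.of_surjective g hg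
    have hc : ∀ {P Q : Type u} [AddCommGroup P] [Module A P] [AddCommGroup Q] [Module A Q]
        (φ : P →ₗ[A] Q), φ.comp (LinearMap.lsmul A P x) = (LinearMap.lsmul A Q x).comp φ :=
      fun φ => LinearMap.ext fun m => φ.map_smul x m
    let kf : Ker x M₁ →ₗ[A] Ker x M₂ := f.restrict fun m (hm : x • m = 0) => by
      show x • f m = 0
      rw [← map_smul, hm, map_zero]
    let kg : Ker x M₂ →ₗ[A] Ker x M₃ := g.restrict fun m (hm : x • m = 0) => by
      show x • g m = 0
      rw [← map_smul, hm, map_zero]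
    let qf : (M₁ ⧸ Im x M₁) →ₗ[A] M₂ ⧸ Im x M₂ := Submodule.mapQ _ _ f (by
      rintro _ ⟨m, rfl⟩
      exact ⟨f m, (f.map_smul x m).symm⟩)
    let qg : (M₂ ⧸ Im x M₂) →ₗ[A] M₃ ⧸ Im x M₃ := Submodule.mapQ _ _ g (by
      rintro _ ⟨m, rfl⟩
      exact ⟨g m, (g.map_smul x m).symm⟩)
    let δ := SnakeLemma.δ' (LinearMap.lsmul A M₁ x) (LinearMap.lsmul A M₂ x)
      (LinearMap.lsmul A M₃ x) f g hfg f g hfg (hc f) (hc g) (Ker x M₃).subtype
      (LinearMap.exact_subtype_ker_map _) (Im x M₁).mkQ (LinearMap.exact_map_mkQ_range _) hg hf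
    have e₁ : Function.Exact kf kg := fun z => by
      constructor
      · intro hz
        obtain ⟨m, hm⟩ := (hfg z.1).1 (congrArg Subtype.val hz)
        refine ⟨⟨m, hf ?_⟩, Subtype.ext hm⟩
        show f (x • m) = f 0
        rw [map_smul, hm, map_zero]
        exact z.2
      · rintro ⟨m, rfl⟩
        exact Subtype.ext (hfg.apply_apply_eq_zero m.1)
    have e₂ : Function.Exact kg δ :=
      SnakeLemma.exact_δ'_right _ _ _ _ _ _ _ _ _ _ _ _ (LinearMap.exact_subtype_ker_map _) _ _ _ _
        hg hf kg (LinearMap.ext fun z => rfl) Subtype.val_injective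
    have e₃ : Function.Exact δ qf :=
      SnakeLemma.exact_δ'_left _ _ _ _ _ _ _ _ _ _ _ _ _ _ _ _ (LinearMap.exact_map_mkQ_range _)
        hg hf qf (LinearMap.ext fun z => rfl) (Submodule.mkQ_surjective _)
    have e₄ : Function.Exact qf qg := fun z => by
      obtain ⟨m, rfl⟩ := Submodule.Quotient.mk_surjective _ z
      constructor
      · intro hz
        obtain ⟨n, hn⟩ := (Submodule.Quotient.mk_eq_zero _).1 hz
        obtain ⟨m', rfl⟩ := hg n
        obtain ⟨m₁, hm₁⟩ := (hfg (m - x • m')).1 (by
          rw [map_sub, map_smul, show x • g m' = g m from hn, sub_self])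
        refine ⟨Submodule.Quotient.mk m₁, (Submodule.Quotient.eq _).2 ⟨-m', ?_⟩⟩
        show x • -m' = f m₁ - m
        rw [hm₁, smul_neg]
        abel
      · rintro ⟨w, hw⟩
        obtain ⟨m₁, rfl⟩ := Submodule.Quotient.mk_surjective _ w
        rw [← hw]
        show Submodule.Quotient.mk (g (f m₁)) = 0
        rw [hfg.apply_apply_eq_zero, Submodule.Quotient.mk_zero]
    have h₁ : Function.Injective kf := fun a b hab => Subtype.ext (hf (congrArg Subtype.val hab))
    have h₅ : Function.Surjective qg := fun z => by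
      obtain ⟨n, rfl⟩ := Submodule.Quotient.mk_surjective _ z
      obtain ⟨m, rfl⟩ := hg n
      exact ⟨Submodule.Quotient.mk m, rfl⟩
    have := chi_six_of ih kf kg δ qf qg h₁ e₁ e₂ e₃ e₄ h₅ h.ker h3.ker h1.im_quotient h.im_quotient
    rw [chi_cons, chi_cons, chi_cons]
    linarith

variable {M : Type u} [AddCommGroup M] [Module A M]

theorem chi_of_exact {l : List A} {N P : Type u} [AddCommGroup N] [Module A N] [AddCommGroup P]
    [Module A P] (f : M →ₗ[A] N) (g : N →ₗ[A] P) (hf : Function.Injective f)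
    (hg : Function.Surjective g) (hfg : Function.Exact f g) (h : Fn l N) :
    chi l N = chi l M + chi l P :=
  chiAdd l f g hf hg hfg h

theorem chi_cons_mul (x y : A) (l : List A) (h : Fn (x * y :: l) M) :
    chi (x * y :: l) M = chi (x :: l) M + chi (y :: l) M := by
  have hx : Fn (x :: l) M := h.weaken fun p hp => List.forall_mem_cons.2
    ⟨Ideal.mul_mem_right _ _ (hp x (by simp)), fun a ha => hp a (by simp [ha])⟩
  have hy : Fn (y :: l) M := h.weaken fun p hp => List.forall_mem_cons.2
    ⟨Ideal.mul_mem_left _ _ (hp y (by simp)), fun a ha => hp a (by simp [ha])⟩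
  let f₁ : Ker x M →ₗ[A] Ker (x * y) M := Submodule.inclusion fun m (hm : x • m = 0) => by
    show (x * y) • m = 0
    rw [mul_comm, mul_smul, hm, smul_zero]
  let f₂ : Ker (x * y) M →ₗ[A] Ker y M :=
    LinearMap.restrict (LinearMap.lsmul A M x) fun m (hm : (x * y) • m = 0) => by
      show y • (x • m) = 0
      rw [smul_smul, mul_comm y x]
      exact hm
  let f₃ : Ker y M →ₗ[A] M ⧸ Im x M := (Im x M).mkQ.comp (Ker y M).subtype
  let f₄ : (M ⧸ Im x M) →ₗ[A] M ⧸ Im (x * y) M :=
    Submodule.mapQ _ _ (LinearMap.lsmul A M y) (by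
      rintro _ ⟨m, rfl⟩
      exact ⟨m, by show (x * y) • m = y • (x • m); rw [smul_smul, mul_comm y x]⟩)
  let f₅ : (M ⧸ Im (x * y) M) →ₗ[A] M ⧸ Im y M := Submodule.factor (by
    rintro _ ⟨m, rfl⟩
    exact ⟨x • m, by show y • (x • m) = (x * y) • m; rw [smul_smul, mul_comm y x]⟩)
  have h₁ : Function.Injective f₁ := Submodule.inclusion_injective _
  have e₁ : Function.Exact f₁ f₂ := fun z => by
    constructor
    · exact fun hz => ⟨⟨z.1, congrArg Subtype.val hz⟩, rfl⟩
    · rintro ⟨m, rfl⟩
      exact Subtype.ext m.2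
  have e₂ : Function.Exact f₂ f₃ := fun z => by
    constructor
    · intro hz
      obtain ⟨m, hm⟩ := (Submodule.Quotient.mk_eq_zero _).1 hz
      refine ⟨⟨m, ?_⟩, Subtype.ext hm⟩
      show (x * y) • m = 0
      rw [mul_comm, mul_smul, show x • m = z.1 from hm]
      exact z.2
    · rintro ⟨m, rfl⟩
      exact (Submodule.Quotient.mk_eq_zero _).2 ⟨m.1, rfl⟩
  have e₃ : Function.Exact f₃ f₄ := fun z => by
    obtain ⟨m, rfl⟩ := Submodule.Quotient.mk_surjective _ z
    constructor
    · intro hz
      obtain ⟨n, hn⟩ := (Submodule.Quotient.mk_eq_zero _).1 hz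
      refine ⟨⟨m - x • n, ?_⟩, (Submodule.Quotient.eq _).2 ⟨-n, ?_⟩⟩
      · show y • (m - x • n) = 0
        rw [smul_sub, smul_smul, mul_comm y x, show (x * y) • n = y • m from hn, sub_self]
      · show x • -n = m - x • n - m
        rw [smul_neg]
        abel
    · rintro ⟨w, hw⟩
      rw [← hw]
      refine (Submodule.Quotient.mk_eq_zero _).2 ?_
      rw [LinearMap.lsmul_apply, show y • ((Ker y M).subtype w) = 0 from w.2]
      exact zero_mem _
  have e₄ : Function.Exact f₄ f₅ := fun z => by
    obtain ⟨m, rfl⟩ := Submodule.Quotient.mk_surjective _ z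
    constructor
    · intro hz
      obtain ⟨n, hn⟩ := (Submodule.Quotient.mk_eq_zero _).1 hz
      exact ⟨Submodule.Quotient.mk n, congrArg Submodule.Quotient.mk hn⟩
    · rintro ⟨w, hw⟩
      obtain ⟨n, rfl⟩ := Submodule.Quotient.mk_surjective _ w
      rw [← hw]
      exact (Submodule.Quotient.mk_eq_zero _).2 ⟨n, rfl⟩
  have h₅ : Function.Surjective f₅ := fun z => by
    obtain ⟨m, rfl⟩ := Submodule.Quotient.mk_surjective _ z
    exact ⟨Submodule.Quotient.mk m, rfl⟩
  have := chi_six_of (chiAdd l) f₁ f₂ f₃ f₄ f₅ h₁ e₁ e₂ e₃ e₄ h₅ h.ker hy.ker hx.im_quotient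
    h.im_quotient
  rw [chi_cons, chi_cons, chi_cons]
  linarith

theorem chi_mul (x y : A) (l₁ l₂ : List A) (h : Fn (l₁ ++ x * y :: l₂) M) :
    chi (l₁ ++ x * y :: l₂) M = chi (l₁ ++ x :: l₂) M + chi (l₁ ++ y :: l₂) M := by
  induction l₁ generalizing M with
  | nil => exact chi_cons_mul x y l₂ h
  | cons a l₁ ih =>
    simp only [List.cons_append] at h ⊢
    rw [chi_cons, chi_cons, chi_cons, ih h.im_quotient, ih h.ker]
    ring

theorem chi_pow (x : A) (l₁ l₂ : List A) (h : Fn (l₁ ++ x :: l₂) M) :
    ∀ m : ℕ, chi (l₁ ++ x ^ m :: l₂) M = (m : ℤ) * chi (l₁ ++ x :: l₂) M := by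
  intro m
  induction m with
  | zero =>
    rw [chi_eq_zero_of_isUnit _ M (x ^ 0) (by simp) (by simp), Nat.cast_zero, zero_mul]
  | succ m ih =>
    rw [pow_succ, chi_mul (x ^ m) x l₁ l₂ (h.weaken fun p hp a ha => ?_), ih]
    · push_cast
      ring
    · simp only [List.mem_append, List.mem_cons] at ha
      rcases ha with ha | rfl | ha
      · exact hp a (by simp [ha])
      · rcases p.2.mem_or_mem (hp (a ^ m * a) (by simp)) with h' | h'
        · exact p.2.mem_of_pow_mem _ h'
        · exact h'
      · exact hp a (by simp [ha])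

theorem chi_pow_ofFn : ∀ (k : ℕ) (x : Fin k → A) (m : Fin k → ℕ) (pre : List A),
    Fn (pre ++ List.ofFn x) M →
    chi (pre ++ List.ofFn fun j => x j ^ m j) M = (∏ j, (m j : ℤ)) * chi (pre ++ List.ofFn x) M := by
  intro k
  induction k with
  | zero =>
    intro x m pre _
    simp
  | succ k ih =>
    intro x m pre h
    by_cases h0 : ∃ j, m j = 0
    · obtain ⟨j, hj⟩ := h0
      rw [chi_eq_zero_of_isUnit _ M (x j ^ m j)
          (List.mem_append_right _ ((List.mem_ofFn' _ _).2 ⟨j, rfl⟩)) (by simp [hj]),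
        Finset.prod_eq_zero (Finset.mem_univ j) (by simp [hj]), zero_mul]
    · push Not at h0
      rw [List.ofFn_succ, List.ofFn_succ, Fin.prod_univ_succ]
      rw [List.ofFn_succ] at h
      have h' : Fn (pre ++ [x 0 ^ m 0] ++ List.ofFn fun j : Fin k => x j.succ) M :=
        h.weaken fun p hp a ha => by
          simp only [List.mem_append, List.mem_cons] at ha
          rcases ha with ha | rfl | ha
          · exact hp a (by simp [ha])
          · exact p.2.mem_of_pow_mem _ (hp (x 0 ^ m 0) (by simp))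
          · exact hp a (by simp [ha])
      have := ih (fun j => x j.succ) (fun j => m j.succ) (pre ++ [x 0 ^ m 0]) h'
      simp only [List.append_assoc, List.singleton_append] at this
      rw [this, chi_pow (x 0) pre _ h (m 0)]
      ring

end Groth.Agent.KEuler
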