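import Groth.Agent.KEuler.Cone
import Groth.Agent.KEuler.Chi
import Groth.Prelude.Def_Koszul
import Groth.Prelude.Def_DRing2

/-!
# The Euler characteristic of a Koszul complex
-/

set_option autoImplicit false
set_option backward.isDefEq.respectTransparency false
universe u

open CategoryTheory CategoryTheory.Limits CochainComplex CochainComplex.HomComplex
open MonoidalCategory
open Groth.Agent.KCLib

namespace Groth.Agent.KEuler

variable {A : Type u} [CommRing A]

/-- The Euler characteristic of the cohomology, measured by `chi l`. -/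
noncomputable def euler (l : List A) (K : KCx A) : ℤ :=
  ∑ᶠ j : ℤ, ((j.negOnePow : ℤˣ) : ℤ) * chi l (K.homology j)

theorem euler_congr (l : List A) {K K' : KCx A} (e : K ≅ K') : euler l K = euler l K' :=
  finsum_congr fun j =>
    congrArg (((j.negOnePow : ℤˣ) : ℤ) * ·)
      (chi_congr l ((HomologicalComplex.homologyFunctor _ _ j).mapIso e).toLinearEquiv)

theorem subsingleton_homology (M : ModuleCat.{u} A) (fs : List A) (j : ℤ)
    (hj : 0 < j ∨ j < -(fs.length : ℤ)) :
    Subsingleton ((CohIII.koszulCx M fs).homology j) :=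
  ModuleCat.subsingleton_of_isZero
    (HomologicalComplex.ExactAt.isZero_homology
      (ShortComplex.exact_of_isZero_X₂ _ (Koszul15.isZero_X M fs j hj)))

theorem hasFiniteSupport_of_homology (M : ModuleCat.{u} A) (fs : List A) (c : ℤ → ℤ)
    (hc : ∀ j, Subsingleton ((CohIII.koszulCx M fs).homology j) → c j = 0) :
    Function.HasFiniteSupport c := by
  refine Set.Finite.subset (Set.finite_Icc (-(fs.length : ℤ)) 0) fun j hj => ?_
  by_contra hn
  simp only [Set.mem_Icc, not_and_or, not_le] at hn
  exact hj (hc j (subsingleton_homology M fs j hn.symm))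

variable [IsNoetherianRing A]

/-- The cohomology of the Koszul complex of `l₂` is finite with the expected support, and its
Euler characteristic for `l₁` is the iterated characteristic of `l₂.reverse ++ l₁`. -/
theorem euler_koszulCx (M : ModuleCat.{u} A) : ∀ (l₂ l₁ : List A), Fn (l₂.reverse ++ l₁) M →
    (∀ j, Fn l₁ ((CohIII.koszulCx M l₂).homology j)) ∧
      euler l₁ (CohIII.koszulCx M l₂) = chi (l₂.reverse ++ l₁) M := by
  intro l₂
  induction l₂ with
  | nil =>
    intro l₁ h
    simp only [List.reverse_nil, List.nil_append] at h ⊢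
    have e : (CohIII.koszulCx M []).homology 0 ≅ M :=
      HomologicalComplex.singleObjHomologySelfIso (ComplexShape.up ℤ) 0 M
    have h0 : ∀ j : ℤ, j ≠ 0 → Subsingleton ((CohIII.koszulCx M []).homology j) := fun j hj =>
      subsingleton_homology M [] j (by simp; omega)
    refine ⟨fun j => ?_, ?_⟩
    · by_cases hj : j = 0
      · subst hj
        exact h.of_surjective e.toLinearEquiv.symm.toLinearMap e.toLinearEquiv.symm.surjective
      · have := h0 j hj
        exact h.of_surjective (0 : M →ₗ[A] _) fun z => ⟨0, Subsingleton.elim _ _⟩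
    · refine (finsum_eq_single _ 0 fun j hj => ?_).trans ?_
      · have := h0 j hj
        rw [chi_eq_zero_of_subsingleton, mul_zero]
      · rw [chi_congr l₁ e.toLinearEquiv, Int.negOnePow_zero, Units.val_one, one_mul]
  | cons x l₂ ih =>
    intro l₁ h
    simp only [List.reverse_cons, List.append_assoc, List.singleton_append] at h ⊢
    obtain ⟨hFn, hsum⟩ := ih (x :: l₁) h
    rw [← hsum]
    let K := CohIII.koszulCx M l₂
    let H : ℤ → ModuleCat.{u} A := fun j => (mappingCone (x • 𝟙 K)).homology j
    have key : ∀ j, Fn l₁ (H j) ∧ chi l₁ (H j) =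
        chi l₁ (K.homology j ⧸ Im x (K.homology j)) + chi l₁ (Ker x (K.homology (j + 1))) := by
      intro j
      obtain ⟨ι, ρ, h1, h2, h3⟩ := cone_homology_seq K x j
      let ι' : (K.homology j ⧸ Im x (K.homology j)) →ₗ[A] H j := (Im x _).liftQ ι h1.ge
      let ρ' : H j →ₗ[A] Ker x (K.homology (j + 1)) :=
        LinearMap.codRestrict _ ρ fun z => (le_of_eq h3) ⟨z, rfl⟩
      have hi : Function.Injective ι' :=
        LinearMap.ker_eq_bot.1 (Submodule.ker_liftQ_eq_bot _ _ _ h1.le)
      have hr : Function.Surjective ρ' := fun z => by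
        obtain ⟨w, hw⟩ := h3.ge z.2
        exact ⟨w, Subtype.ext hw⟩
      have hir : LinearMap.range ι' = LinearMap.ker ρ' := by
        rw [Submodule.range_liftQ, h2, LinearMap.ker_codRestrict]
      have hFH : Fn l₁ (H j) := Fn.of_range_ker ι' ρ' hir (hFn j).im_quotient (hFn (j + 1)).ker
      exact ⟨hFH, chi_of_exact ι' ρ' hi hr (LinearMap.exact_iff.2 hir.symm) hFH⟩
    refine ⟨fun j => (key j).1, ?_⟩
    let q : ℤ → ℤ := fun j =>
      ((j.negOnePow : ℤˣ) : ℤ) * chi l₁ (K.homology j ⧸ Im x (K.homology j))
    let k : ℤ → ℤ := fun j => ((j.negOnePow : ℤˣ) : ℤ) * chi l₁ (Ker x (K.homology j))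
    have hq : Function.HasFiniteSupport q := hasFiniteSupport_of_homology M l₂ q fun j hj => by
      show _ * _ = (0 : ℤ)
      rw [chi_eq_zero_of_subsingleton, mul_zero]
    have hk : Function.HasFiniteSupport k := hasFiniteSupport_of_homology M l₂ k fun j hj => by
      show _ * _ = (0 : ℤ)
      rw [chi_eq_zero_of_subsingleton, mul_zero]
    have hk' : Function.HasFiniteSupport fun j : ℤ => -k (j + 1) := by
      refine (hk.preimage (f := fun j : ℤ => j + 1) (add_left_injective 1).injOn).subset fun j hj => ?_
      intro h'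
      exact hj (by show -k (j + 1) = 0; rw [h', neg_zero])
    calc euler l₁ (CohIII.koszulCx M (x :: l₂)) = ∑ᶠ j : ℤ, (q j + -k (j + 1)) :=
          finsum_congr fun j => by
            show _ * chi l₁ (H j) = _
            rw [(key j).2]
            simp only [q, k, Int.negOnePow_succ, Units.val_neg]
            ring
      _ = ∑ᶠ j : ℤ, q j + ∑ᶠ j : ℤ, -k (j + 1) := finsum_add_distrib hq hk'
      _ = ∑ᶠ j : ℤ, q j - ∑ᶠ j : ℤ, k j := by
          have e : ∑ᶠ j : ℤ, k (j + 1) = ∑ᶠ j : ℤ, k j := finsum_comp_equiv (Equiv.addRight (1 : ℤ))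
          rw [finsum_neg_distrib, e, sub_eq_add_neg]
      _ = euler (x :: l₁) (CohIII.koszulCx M l₂) := by
          rw [← finsum_sub_distrib hq hk]
          exact finsum_congr fun j => by
            simp only [q, k, chi_cons, mul_sub]
            rfl

section Tensor

/-- The mapping cone of a scalar only depends on the complex up to isomorphism. -/
noncomputable def coneIso (x : A) {K K' : KCx A} (e : K ≅ K') :
    mappingCone (x • 𝟙 K) ≅ mappingCone (x • 𝟙 K') where
  hom := mappingCone.map _ _ e.hom e.hom (by simp [Linear.smul_comp, Linear.comp_smul])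
  inv := mappingCone.map _ _ e.inv e.inv (by simp [Linear.smul_comp, Linear.comp_smul])
  hom_inv_id := by
    rw [← mappingCone.map_comp]
    simp only [Iso.hom_inv_id]
    exact mappingCone.map_id _
  inv_hom_id := by
    rw [← mappingCone.map_comp]
    simp only [Iso.inv_hom_id]
    exact mappingCone.map_id _

omit [IsNoetherianRing A] in
theorem mapHC_smul_id (F : ModuleCat.{u} A ⥤ ModuleCat.{u} A) [F.Additive] [F.Linear A] (x : A)
    (K : KCx A) :
    (F.mapHomologicalComplex (ComplexShape.up ℤ)).map (x • 𝟙 K) =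
      x • 𝟙 ((F.mapHomologicalComplex (ComplexShape.up ℤ)).obj K) := by
  ext1 n
  simp [Functor.map_smul]

omit [IsNoetherianRing A] in
theorem nonempty_tensor_iso (M : ModuleCat.{u} A) : ∀ l : List A,
    Nonempty (DRing.tensorCx (Koszul.koszul A l) M ≅ CohIII.koszulCx M l) := by
  intro l
  induction l with
  | nil =>
    exact ⟨(HomologicalComplex.singleMapHomologicalComplex (tensorRight M) (ComplexShape.up ℤ) 0).app
      (ModuleCat.of A A) ≪≫ (HomologicalComplex.single _ _ 0).mapIso (λ_ M)⟩
  | cons x l ih =>
    obtain ⟨e⟩ := ih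
    exact ⟨mappingCone.mapHomologicalComplexIso (x • 𝟙 (Koszul.koszul A l)) (tensorRight M) ≪≫
      eqToIso (congrArg (fun φ => mappingCone φ)
        (mapHC_smul_id (tensorRight M) x (Koszul.koszul A l))) ≪≫ coneIso x e⟩

end Tensor

/-- A finite-length reduction modulo the sequence gives the finiteness condition. -/
theorem fn_of_finiteLength (M : Type u) [AddCommGroup M] [Module A M] [Module.Finite A M] (S : Set A)
    (h : IsFiniteLength A (M ⧸ (Ideal.span S • (⊤ : Submodule A M)))) (l : List A)
    (hl : ∀ p : PrimeSpectrum A, (∀ a ∈ l, a ∈ p.asIdeal) → S ⊆ p.asIdeal) : Fn l M := by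
  refine ⟨inferInstance, fun p hp ha => (Groth.Agent.S16234.result A _).2 h p ?_⟩
  rw [Module.support_quotient]
  exact ⟨hp, (PrimeSpectrum.mem_zeroLocus _ _).2 (SetLike.coe_subset_coe.2 (Ideal.span_le.2 (hl p ha)))⟩

/-- The Euler characteristic in the statements is the iterated characteristic. -/
theorem sum_eq_chi (l : List A) (M : Type u) [AddCommGroup M] [Module A M] (h : Fn l M) :
    (∑ᶠ i : ℤ, ((i.negOnePow : ℤˣ) : ℤ) * ((Module.length A
      ((DRing.tensorCx (Koszul.koszul A l) (ModuleCat.of A M)).homology i)).toNat : ℤ)) =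
      chi l.reverse M := by
  obtain ⟨e⟩ := nonempty_tensor_iso (ModuleCat.of A M) l
  have hr : Fn (l.reverse ++ []) (ModuleCat.of A M) := h.weaken fun p hp a ha => hp a (by simpa using ha)
  show euler [] _ = _
  rw [euler_congr [] e, (euler_koszulCx _ l [] hr).2, List.append_nil]

end Groth.Agent.KEuler
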