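import Groth.Agent.KCLib.ConeElem
import Groth.Agent.Koszul15.Basic

/-!
# Cohomology of the cone of a scalar
-/

set_option autoImplicit false
set_option backward.isDefEq.respectTransparency false
universe u

open CategoryTheory CategoryTheory.Limits CochainComplex CochainComplex.HomComplex
open Groth.Agent.KCLib

namespace Groth.Agent.KEuler

variable {A : Type u} [CommRing A]

theorem exists_lift {M N P : Type u} [AddCommGroup M] [Module A M] [AddCommGroup N] [Module A N]
    [AddCommGroup P] [Module A P] (π : M →ₗ[A] N) (hπ : Function.Surjective π) (φ : M →ₗ[A] P)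
    (h : LinearMap.ker π ≤ LinearMap.ker φ) : ∃ ψ : N →ₗ[A] P, ∀ z, ψ (π z) = φ z :=
  ⟨((LinearMap.ker π).liftQ φ h).comp (π.quotKerEquivOfSurjective hπ).symm.toLinearMap, fun z => by
    show (LinearMap.ker π).liftQ φ h ((π.quotKerEquivOfSurjective hπ).symm (π z)) = φ z
    rw [show π z = π.quotKerEquivOfSurjective hπ (Submodule.Quotient.mk z) from rfl,
      LinearEquiv.symm_apply_apply]
    rfl⟩

theorem smul_id_apply (K : KCx A) (x : A) (n : ℤ) (z : K.X n) : (x • 𝟙 K : K ⟶ K).f n z = x • z := rfl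

/-- The cohomology of the cone of `x` is an extension of the kernel by the cokernel of `x`. -/
theorem cone_homology_seq (K : KCx A) (x : A) (j : ℤ) :
    ∃ (ι : K.homology j →ₗ[A] (mappingCone (x • 𝟙 K)).homology j)
      (ρ : (mappingCone (x • 𝟙 K)).homology j →ₗ[A] K.homology (j + 1)),
      LinearMap.ker ι = LinearMap.range (LinearMap.lsmul A (K.homology j) x) ∧
        LinearMap.range ι = LinearMap.ker ρ ∧
        LinearMap.range ρ = LinearMap.ker (LinearMap.lsmul A (K.homology (j + 1)) x) := by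
  set φ := x • 𝟙 K
  let C := mappingCone φ
  obtain ⟨i, rfl⟩ : ∃ i, j = i + 1 := ⟨j - 1, by omega⟩
  let j := i + 1
  let k := j + 1
  obtain ⟨π, hπs, hπ0, -⟩ := exists_hom_class K i j k rfl rfl
  obtain ⟨π', hπ's, hπ'0, -⟩ := exists_hom_class K j k (k + 1) rfl rfl
  obtain ⟨σ, hσs, hσ0, -⟩ := exists_hom_class C i j k rfl rfl
  -- components of a boundary
  have hd1 : ∀ w : C.X i, cfst φ (m := k) rfl (C.d i j w) = - K.d j k (cfst φ (m := j) rfl w) :=
    fun w => cfst_d φ rfl rfl w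
  have hd2 : ∀ w : C.X i, csnd φ (C.d i j w) = x • cfst φ (m := j) rfl w + K.d i j (csnd φ w) :=
    fun w => csnd_d φ rfl w
  -- the map from the target
  let a : LinearMap.ker (K.d j k).hom →ₗ[A] LinearMap.ker (C.d j k).hom :=
    LinearMap.codRestrict _ (((mappingCone.inr φ).f j).hom.comp (LinearMap.ker (K.d j k).hom).subtype)
      fun z => by
        refine (ConcreteCategory.congr_hom ((mappingCone.inr φ).comm j k) z.1).trans ?_
        show (mappingCone.inr φ).f k (K.d j k z.1) = 0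
        rw [show K.d j k z.1 = 0 from z.2, map_zero]
  have ha : ∀ z, cfst φ (m := k) rfl (a z).1 = 0 ∧ csnd φ (a z).1 = z.1 := fun z =>
    ⟨ConcreteCategory.congr_hom (mappingCone.inr_f_fst_v φ j k rfl) z.1,
      ConcreteCategory.congr_hom (mappingCone.inr_f_snd_v φ j) z.1⟩
  obtain ⟨ι, hι⟩ := exists_lift π hπs (σ.comp a) fun z hz => by
    obtain ⟨w, hw⟩ := (hπ0 z).1 hz
    refine (hσ0 (a z)).2 ⟨cmk φ rfl 0 w, cone_ext' φ (n := j) (m := k) rfl ?_ ?_⟩
    · rw [hd1, cfst_cmk, map_zero, neg_zero, (ha z).1]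
    · rw [hd2, cfst_cmk, csnd_cmk, smul_zero, zero_add, hw, (ha z).2]
  -- the map to the source
  have hb : ∀ z : LinearMap.ker (C.d j k).hom, K.d k (k + 1) (cfst φ (m := k) rfl z.1) = 0 ∧
      x • cfst φ (m := k) rfl z.1 + K.d j k (csnd φ z.1) = 0 := by
    intro z
    have e1 := cfst_d φ (n := j) (m := k) (k := k + 1) rfl rfl z.1
    have e2 := csnd_d φ (n := j) (m := k) rfl z.1
    rw [show (mappingCone φ).d j k z.1 = 0 from z.2] at e1 e2
    simp only [cfst, csnd, map_zero] at e1 e2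
    exact ⟨neg_eq_zero.1 e1.symm, e2.symm⟩
  let b : LinearMap.ker (C.d j k).hom →ₗ[A] LinearMap.ker (K.d k (k + 1)).hom :=
    LinearMap.codRestrict _ (((mappingCone.fst φ).1.v j k rfl).hom.comp (LinearMap.ker (C.d j k).hom).subtype)
      fun z => (hb z).1
  obtain ⟨ρ, hρ⟩ := exists_lift σ hσs (π'.comp b) fun z hz => by
    obtain ⟨w, hw⟩ := (hσ0 z).1 hz
    refine (hπ'0 (b z)).2 ⟨-cfst φ (m := j) rfl w, ?_⟩
    rw [map_neg, ← hd1, hw]
    rfl
  refine ⟨ι, ρ, ?_, ?_, ?_⟩
  · ext h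
    obtain ⟨z, rfl⟩ := hπs h
    rw [LinearMap.mem_ker, hι, LinearMap.comp_apply, hσ0]
    constructor
    · rintro ⟨w, hw⟩
      have e1 : K.d j k (cfst φ (m := j) rfl w) = 0 := by
        rw [← neg_eq_zero, ← hd1, hw, (ha z).1]
      have e2 : z.1 = x • cfst φ (m := j) rfl w + K.d i j (csnd φ w) := by rw [← hd2, hw, (ha z).2]
      refine ⟨π ⟨cfst φ (m := j) rfl w, e1⟩, ?_⟩
      rw [LinearMap.lsmul_apply, ← map_smul, eq_comm, ← sub_eq_zero, ← map_sub, hπ0]
      exact ⟨csnd φ w, by simp [e2]⟩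
    · rintro ⟨h', hh'⟩
      obtain ⟨z', rfl⟩ := hπs h'
      rw [LinearMap.lsmul_apply, ← map_smul, eq_comm, ← sub_eq_zero, ← map_sub, hπ0] at hh'
      obtain ⟨v, hv⟩ := hh'
      refine ⟨cmk φ rfl z'.1 v, cone_ext' φ (n := j) (m := k) rfl ?_ ?_⟩
      · rw [hd1, cfst_cmk, show K.d j k z'.1 = 0 from z'.2, neg_zero, (ha z).1]
      · rw [hd2, cfst_cmk, csnd_cmk, hv, (ha z).2]
        simp
  · refine le_antisymm ?_ fun h hh => ?_
    · rintro _ ⟨h, rfl⟩
      obtain ⟨z, rfl⟩ := hπs h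
      rw [LinearMap.mem_ker, hι, LinearMap.comp_apply, hρ, LinearMap.comp_apply,
        show b (a z) = 0 from Subtype.ext (ha z).1, map_zero]
    · obtain ⟨z, rfl⟩ := hσs h
      rw [LinearMap.mem_ker, hρ, LinearMap.comp_apply, hπ'0] at hh
      obtain ⟨v, hv⟩ := hh
      replace hv : K.d j k v = cfst φ (m := k) rfl z.1 := hv
      have hy : K.d j k (csnd φ z.1 + x • v) = 0 := by
        rw [map_add, map_smul, hv, add_comm]
        exact (hb z).2
      refine ⟨π ⟨csnd φ z.1 + x • v, hy⟩, ?_⟩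
      rw [hι, LinearMap.comp_apply, ← sub_eq_zero, ← map_sub, hσ0]
      refine ⟨cmk φ rfl v 0, cone_ext' φ (n := j) (m := k) rfl ?_ ?_⟩
      · rw [hd1, cfst_cmk, hv]
        simp only [Submodule.coe_sub, cfst, map_sub]
        rw [show (mappingCone.fst φ).1.v j k rfl (a ⟨_, hy⟩).1 = 0 from (ha ⟨_, hy⟩).1, zero_sub]
      · rw [hd2, cfst_cmk, csnd_cmk, map_zero, add_zero]
        simp only [Submodule.coe_sub, csnd, map_sub]
        refine Eq.trans ?_ (congrArg (· - _) (ha ⟨_, hy⟩).2).symm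
        exact (add_sub_cancel_left _ _).symm
  · refine le_antisymm ?_ fun h hh => ?_
    · rintro _ ⟨h, rfl⟩
      obtain ⟨z, rfl⟩ := hσs h
      rw [LinearMap.mem_ker, hρ, LinearMap.comp_apply, LinearMap.lsmul_apply, ← map_smul, hπ'0]
      refine ⟨-csnd φ z.1, ?_⟩
      rw [map_neg]
      exact (eq_neg_of_add_eq_zero_left (hb z).2).symm
    · obtain ⟨z, rfl⟩ := hπ's h
      rw [LinearMap.mem_ker, LinearMap.lsmul_apply, ← map_smul, hπ'0] at hh
      obtain ⟨v, hv⟩ := hh
      replace hv : K.d j k v = x • z.1 := hv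
      have hc : C.d j k (cmk φ (n := j) (m := k) rfl z.1 (-v)) = 0 := by
        refine cone_ext' φ (n := k) (m := k + 1) rfl ?_ ?_
        · rw [cfst_d φ (n := j) (m := k) rfl rfl, cfst_cmk, show K.d k (k + 1) z.1 = 0 from z.2, neg_zero]
          exact (map_zero _).symm
        · rw [csnd_d φ (n := j) (m := k) rfl, cfst_cmk, csnd_cmk, smul_id_apply, map_neg, hv, add_neg_cancel]
          exact (map_zero _).symm
      exact ⟨σ ⟨_, hc⟩, by
        rw [hρ, LinearMap.comp_apply]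
        exact congrArg π' (Subtype.ext (cfst_cmk φ rfl z.1 (-v)))⟩

end Groth.Agent.KEuler
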